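import Groth.Agent.Vasconcelos.Basic
import Groth.Agent.DepthLib.LocalSequence

/-!
# Vasconcelos: the global statement
-/

universe u

open CategoryTheory
open scoped Pointwise

namespace Groth.Agent.Vasconcelos

open RingTheory.Sequence

/-- Scaling the members of a list by units does not change the ideal. -/
theorem ofList_map_unit {R : Type*} [CommRing R] (f : R → R) (hf : ∀ r, ∃ u : R, IsUnit u ∧ f r = u * r) :
    ∀ l : List R, Ideal.ofList (l.map f) = Ideal.ofList l
  | [] => rfl
  | r :: l => by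
    obtain ⟨u, hu, he⟩ := hf r
    rw [List.map_cons, Ideal.ofList_cons, Ideal.ofList_cons, ofList_map_unit f hf l, he,
      Ideal.span_singleton_mul_left_unit hu]

/-- Scaling the members of a weakly regular sequence by units. -/
theorem isWeaklyRegular_map_unit {R : Type*} [CommRing R] {M : Type*} [AddCommGroup M] [Module R M]
    (f : R → R) (hf : ∀ r, ∃ u : R, IsUnit u ∧ f r = u * r) {l : List R} (h : IsWeaklyRegular M l) :
    IsWeaklyRegular M (l.map f) := by
  constructor
  intro i hi
  have hi' : i < l.length := by simpa using hi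
  have e : (Ideal.ofList ((l.map f).take i) • ⊤ : Submodule R M) = Ideal.ofList (l.take i) • ⊤ := by
    rw [← List.map_take, ofList_map_unit f hf]
  rw [List.getElem_map]
  obtain ⟨u, hu, he⟩ := hf l[i]
  rw [he]
  exact ((Submodule.quotEquivOfEq _ _ e).isSMulRegular_congr _).2
    ((hu.isSMulRegular _).mul (h.regular_mod_prev i hi'))

variable {R : Type u} [CommRing R] [IsNoetherianRing R]

/-- A weakly regular sequence at `p` is one in a neighbourhood of `p`. -/
theorem regOn_spread (p : Ideal R) [hp : p.IsPrime] (rs : List R) :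
    ∀ {M : Type u} [AddCommGroup M] [Module R M] [Module.Finite R M],
      DepthLib.RegOn p.primeCompl M rs →
      ∃ g ∉ p, ∀ T : Submonoid R, (∃ t, t * g ∈ T) → DepthLib.RegOn T M rs := by
  induction rs with
  | nil =>
    intro M _ _ _ _
    exact ⟨1, fun h => hp.ne_top ((Ideal.eq_top_iff_one _).mpr h), fun T _ => DepthLib.regOn_nil T M⟩
  | cons a rs ih =>
    intro M _ _ _ h
    obtain ⟨hker, hrest⟩ := (DepthLib.regOn_cons_iff _ a rs).1 h
    obtain ⟨g₁, hg₁, hg₁p⟩ : ∃ g₁, g₁ ∈ Module.annihilator R (LinearMap.ker (LinearMap.lsmul R M a)) ∧ g₁ ∉ p := by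
      rw [← SetLike.not_le_iff_exists]
      intro hle
      have hsupp : (⟨p, inferInstance⟩ : PrimeSpectrum R) ∈
          Module.support R (LinearMap.ker (LinearMap.lsmul R M a)) := by
        rw [Module.support_eq_zeroLocus]; exact hle
      rw [Module.mem_support_iff'] at hsupp
      obtain ⟨⟨m, hm⟩, hm'⟩ := hsupp
      obtain ⟨t, ht, htm⟩ := hker m (LinearMap.mem_ker.mp hm)
      exact hm' t ht (Subtype.ext htm)
    obtain ⟨g₂, hg₂, hT⟩ := ih hrest
    refine ⟨g₁ * g₂, fun h => (hp.mem_or_mem h).elim hg₁p hg₂, fun T ⟨t, ht⟩ =>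
      (DepthLib.regOn_cons_iff T a rs).2 ⟨fun m hm => ⟨_, ht, ?_⟩, hT T ⟨t * g₁, by rwa [mul_assoc]⟩⟩⟩
    have h0 := congrArg Subtype.val (Module.mem_annihilator.mp hg₁ ⟨m, LinearMap.mem_ker.mpr hm⟩)
    simp only [SetLike.val_smul, ZeroMemClass.coe_zero] at h0
    rw [mul_comm g₁ g₂, ← mul_assoc, mul_smul, h0, smul_zero]

/-- An inclusion of extended ideals at `p` holds after multiplying by an element outside `p`. -/
theorem exists_mul_mem_of_map_le (p : Ideal R) [hp : p.IsPrime] (I J : Ideal R)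
    (h : I.map (algebraMap R (Localization.AtPrime p)) ≤ J.map (algebraMap R (Localization.AtPrime p))) :
    ∃ s ∉ p, ∀ y ∈ I, s * y ∈ J := by
  classical
  obtain ⟨S, hS⟩ := IsNoetherian.noetherian I
  have : ∀ y : R, ∃ s ∉ p, y ∈ I → s * y ∈ J := fun y => by
    by_cases hy : y ∈ I
    · obtain ⟨s, hs, hsy⟩ := (IsLocalization.algebraMap_mem_map_algebraMap_iff p.primeCompl
        (Localization.AtPrime p) J y).1 (h (Ideal.mem_map_of_mem _ hy))
      exact ⟨s, hs, fun _ => hsy⟩
    · exact ⟨1, fun h => hp.ne_top ((Ideal.eq_top_iff_one _).mpr h), fun h' => absurd h' hy⟩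
  choose s hs hsy using this
  refine ⟨∏ y ∈ S, s y, fun hmem => ?_, ?_⟩
  · obtain ⟨y, _, hy⟩ := hp.prod_mem_iff.1 hmem
    exact hs y hy
  · intro y hy
    rw [← hS] at hy
    induction hy using Submodule.span_induction with
    | mem z hz =>
      rw [← Finset.prod_erase_mul _ _ hz, mul_assoc]
      exact J.mul_mem_left _ (hsy z (hS ▸ Submodule.subset_span hz))
    | zero => rw [mul_zero]; exact J.zero_mem
    | add z w _ _ hz hw => rw [mul_add]; exact J.add_mem hz hw
    | smul r z _ hz => rw [smul_eq_mul, mul_left_comm]; exact J.mul_mem_left _ hz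

omit [IsNoetherianRing R] in
/-- Weak regularity on the localised module and on the localised ring. -/
theorem regOn_self_iff (S : Submonoid R) (rs : List R) :
    DepthLib.RegOn S R rs ↔
      IsWeaklyRegular (Localization S) (rs.map (algebraMap R (Localization S))) := by
  rw [DepthLib.RegOn, isWeaklyRegular_map_algebraMap_iff]

/-- The projective dimension of the extended ideal at `p`. -/
theorem projDim_map (p : Ideal R) [hp : p.IsPrime] (I : Ideal R) (N : ℕ)
    (hpd : HasProjectiveDimensionLT (ModuleCat.of R I) (N + 1)) :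
    HasProjectiveDimensionLT (ModuleCat.of (Localization.AtPrime p)
      (I.map (algebraMap R (Localization.AtPrime p)))) (N + 1) := by
  have h := (ProjDim.pd_locus N I).2.1 hpd ⟨p, hp⟩
  let e := ((IsLocalizedModule.iso p.primeCompl (Algebra.idealMap (S := Localization.AtPrime p) I)
    ).extendScalarsOfIsLocalization p.primeCompl (Localization.AtPrime p)).toModuleIso
  exact (Retract.mk (X := ModuleCat.of (Localization.AtPrime p)
      (I.map (algebraMap R (Localization.AtPrime p))))
    (Y := ProjDim.locMod ⟨p, hp⟩ I) e.inv e.hom e.inv_hom_id).hasProjectiveDimensionLT (N + 1)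

/-- Conormal projectivity localises. -/
theorem projective_cotangent_map (p : Ideal R) [hp : p.IsPrime] (I : Ideal R)
    [Module.Projective (R ⧸ I) I.Cotangent] :
    Module.Projective (Localization.AtPrime p ⧸ I.map (algebraMap R (Localization.AtPrime p)))
      (I.map (algebraMap R (Localization.AtPrime p))).Cotangent ∧
    Module.Finite (Localization.AtPrime p ⧸ I.map (algebraMap R (Localization.AtPrime p)))
      (I.map (algebraMap R (Localization.AtPrime p))).Cotangent := by
  classical
  let Rp := Localization.AtPrime p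
  let Ip : Ideal Rp := I.map (algebraMap R Rp)
  obtain ⟨k, y, hy⟩ := Module.Finite.exists_fin (R := R) (M := I)
  let π : (Fin k → R ⧸ I) →ₗ[R ⧸ I] I.Cotangent :=
    Fintype.linearCombination (R ⧸ I) fun i => I.toCotangent (y i)
  have hπ : Function.Surjective π := fun c => by
    obtain ⟨z, rfl⟩ := I.toCotangent_surjective c
    have hz : z ∈ Submodule.span R (Set.range y) := hy ▸ Submodule.mem_top
    obtain ⟨r, rfl⟩ := (Submodule.mem_span_range_iff_exists_fun R).1 hz
    refine ⟨fun i => Ideal.Quotient.mk I (r i), ?_⟩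
    simp only [π, Fintype.linearCombination_apply, map_sum, map_smul]
    rfl
  obtain ⟨σ, hσ⟩ := Module.projective_lifting_property π LinearMap.id hπ
  let c : Fin k → (I →ₗ[R] R ⧸ I) := fun i =>
    ((LinearMap.proj i ∘ₗ σ).restrictScalars R) ∘ₗ I.toCotangent
  have hc : ∀ z : I, ∑ i, c i z • I.toCotangent (y i) = I.toCotangent z := fun z =>
    LinearMap.congr_fun hσ (I.toCotangent z)
  let j : I →ₗ[R] Ip := Algebra.idealMap (S := Rp) I
  let e₁ : R ⧸ I →ₗ[R] Rp ⧸ Ip := Submodule.liftQ I (Algebra.linearMap R (Rp ⧸ Ip)) fun z hz => by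
    rw [LinearMap.mem_ker, Algebra.linearMap_apply, IsScalarTower.algebraMap_apply R Rp]
    exact Ideal.Quotient.eq_zero_iff_mem.2 (Ideal.mem_map_of_mem _ hz)
  have hunit : ∀ s : p.primeCompl, IsUnit (algebraMap R (Module.End R (Rp ⧸ Ip)) s) := fun s => by
    rw [Module.End.isUnit_iff]
    obtain ⟨u, hu⟩ := IsLocalization.map_units Rp s
    refine ⟨fun a b e => ?_, fun a => ⟨(↑u⁻¹ : Rp) • a, ?_⟩⟩
    · have e' : (u : Rp) • a = (u : Rp) • b := by
        simpa [hu, algebraMap_smul] using e
      exact (u.isUnit.smul_left_cancel).1 e'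
    · show (s : R) • (↑u⁻¹ : Rp) • a = a
      rw [← algebraMap_smul Rp (s : R), ← hu, smul_smul, Units.mul_inv, one_smul]
  let c' : Fin k → (Ip →ₗ[Rp] Rp ⧸ Ip) := fun i =>
    (IsLocalizedModule.lift p.primeCompl j (e₁ ∘ₗ c i) hunit).extendScalarsOfIsLocalization p.primeCompl Rp
  have hc' : ∀ i z, c' i (j z) = e₁ (c i z) := fun i z =>
    IsLocalizedModule.lift_apply p.primeCompl j (e₁ ∘ₗ c i) hunit z
  let σ₀ : Ip.Cotangent →ₗ[Rp] (Fin k → Rp ⧸ Ip) :=
    Ideal.Cotangent.lift (LinearMap.pi c') fun a b => by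
      have : (a * b : Ip) = (a : Rp) • b := rfl
      rw [this, map_smul]
      funext i
      show (a : Rp) • c' i b = 0
      obtain ⟨q, hq⟩ := Ideal.Quotient.mk_surjective (c' i b)
      rw [← hq]
      show Ideal.Quotient.mk Ip ((a : Rp) * q) = 0
      exact Ideal.Quotient.eq_zero_iff_mem.2 (Ideal.mul_mem_right _ _ a.2)
  let σ' : Ip.Cotangent →ₗ[Rp ⧸ Ip] (Fin k → Rp ⧸ Ip) := linQ Ideal.Quotient.mk_surjective σ₀
  let π' : (Fin k → Rp ⧸ Ip) →ₗ[Rp ⧸ Ip] Ip.Cotangent :=
    Fintype.linearCombination (Rp ⧸ Ip) fun i => Ip.toCotangent (j (y i))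
  let Φ : I.Cotangent →ₗ[R] Ip.Cotangent :=
    Ideal.Cotangent.lift (Ip.toCotangent.restrictScalars R ∘ₗ j) fun a b => by
      show Ip.toCotangent (j (a * b)) = 0
      rw [Ideal.toCotangent_eq_zero]
      show algebraMap R Rp ((a : R) * b) ∈ Ip ^ 2
      rw [map_mul, sq]
      exact Ideal.mul_mem_mul (Ideal.mem_map_of_mem _ a.2) (Ideal.mem_map_of_mem _ b.2)
  have : IsScalarTower R (Rp ⧸ Ip) Ip.Cotangent := ⟨fun r q z => by
    obtain ⟨x, rfl⟩ := Ideal.Quotient.mk_surjective q
    show (r • x) • z = r • (x • z)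
    exact smul_assoc _ _ _⟩
  have hΦ : ∀ (q : R ⧸ I) (z : I.Cotangent), Φ (q • z) = e₁ q • Φ z := fun q z => by
    obtain ⟨r, rfl⟩ := Ideal.Quotient.mk_surjective q
    rw [show Ideal.Quotient.mk I r • z = r • z from rfl, map_smul,
      show e₁ (Ideal.Quotient.mk I r) = algebraMap R (Rp ⧸ Ip) r from rfl, algebraMap_smul]
  have key : ∀ w : Ip, π' (σ' (Ip.toCotangent w)) = Ip.toCotangent w := fun w => by
    obtain ⟨⟨z, s⟩, hs⟩ := IsLocalizedModule.surj p.primeCompl j w
    have hs' : algebraMap R Rp s • w = j z := by rw [algebraMap_smul]; exact hs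
    have hz : π' (σ' (Ip.toCotangent (j z))) = Ip.toCotangent (j z) := by
      have h1 := congrArg Φ (hc z)
      simp only [map_sum, hΦ] at h1
      refine Eq.trans ?_ h1
      simp only [π', Fintype.linearCombination_apply]
      refine Finset.sum_congr rfl fun i _ => ?_
      show c' i (j z) • _ = _
      rw [hc']
      rfl
    rw [← hs', map_smul, σ'.map_smul_of_tower, π'.map_smul_of_tower] at hz
    exact ((IsLocalization.map_units Rp s).smul_left_cancel).1 hz
  have hcomp : π' ∘ₗ σ' = LinearMap.id := LinearMap.ext fun w => by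
    obtain ⟨w, rfl⟩ := Ip.toCotangent_surjective w
    exact key w
  exact ⟨Module.Projective.of_split σ' π' hcomp,
    Module.Finite.of_surjective π' fun w => ⟨σ' w, LinearMap.congr_fun hcomp w⟩⟩

/-- A local ring, an ideal with free conormal module: generators with dual functionals. -/
theorem exists_dual_generators {A : Type u} [CommRing A] [IsLocalRing A] [IsNoetherianRing A]
    (J : Ideal A) (hJ : J ≤ IsLocalRing.maximalIdeal A) [Module.Projective (A ⧸ J) J.Cotangent]
    [Module.Finite (A ⧸ J) J.Cotangent] :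
    ∃ (n : ℕ) (g : Fin n → J) (ψ : Fin n → (J →ₗ[A] A ⧸ J)),
      Ideal.span (Set.range fun i => (g i : A)) = J ∧ ∀ i j, ψ i (g j) = if i = j then 1 else 0 := by
  classical
  have : Nontrivial (A ⧸ J) := Ideal.Quotient.nontrivial_iff.2
    (ne_top_of_le_ne_top (IsLocalRing.maximalIdeal.isMaximal A).ne_top hJ)
  have : IsLocalRing (A ⧸ J) := IsLocalRing.of_surjective' (Ideal.Quotient.mk _) Ideal.Quotient.mk_surjective
  have : Module.Free (A ⧸ J) J.Cotangent := Module.free_of_flat_of_isLocalRing
  let b := Module.finBasis (A ⧸ J) J.Cotangent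
  choose g hg using fun i => J.toCotangent_surjective (b i)
  refine ⟨_, g, fun i => (b.coord i).restrictScalars A ∘ₗ J.toCotangent, ?_, fun i l => ?_⟩
  · refine le_antisymm (Ideal.span_le.2 ?_) ?_
    · rintro _ ⟨i, rfl⟩; exact (g i).2
    · refine Submodule.le_of_le_smul_of_le_jacobson_bot (IsNoetherian.noetherian J)
        (hJ.trans (IsLocalRing.maximalIdeal_le_jacobson _)) fun z hz => ?_
      choose r hr using fun i => Ideal.Quotient.mk_surjective (b.repr (J.toCotangent ⟨z, hz⟩) i)
      have h1 : J.toCotangent ⟨z, hz⟩ = J.toCotangent (∑ i, r i • g i) := by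
        conv_lhs => rw [← b.sum_repr (J.toCotangent ⟨z, hz⟩)]
        rw [map_sum]
        refine Finset.sum_congr rfl fun i _ => ?_
        rw [map_smul, hg, ← hr]
        rfl
      have h2 := (J.toCotangent_eq).1 h1
      rw [sq] at h2
      have h3 : ((∑ i, r i • g i : J) : A) ∈ Ideal.span (Set.range fun i => (g i : A)) := by
        simp only [Submodule.coe_sum, SetLike.val_smul, smul_eq_mul]
        exact Ideal.sum_mem _ fun i _ => Ideal.mul_mem_left _ _ (Ideal.subset_span ⟨i, rfl⟩)
      rw [show z = ((∑ i, r i • g i : J) : A) + (z - ((∑ i, r i • g i : J) : A)) from (add_sub_cancel _ _).symm]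
      exact Submodule.add_mem_sup h3 h2
  · show b.coord i (J.toCotangent (g l)) = _
    rw [hg, Module.Basis.coord_apply, b.repr_self, Finsupp.single_apply]
    exact if_congr eq_comm rfl rfl

/-- Vasconcelos' theorem. -/
theorem exists_away_regular (I : Ideal R) (n : ℕ)
    (hpd : HasProjectiveDimensionLT (ModuleCat.of R I) n)
    [Module.Projective (R ⧸ I) I.Cotangent] (p : Ideal R) [hp : p.IsPrime] (hIp : I ≤ p) :
    ∃ g : R, g ∉ p ∧ ∃ rs : List (Localization.Away g),
      IsRegular (Localization.Away g) rs ∧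
        Ideal.ofList rs = I.map (algebraMap R (Localization.Away g)) := by
  classical
  have := hpd
  have hpd' : HasProjectiveDimensionLT (ModuleCat.of R I) (n + 1) :=
    hasProjectiveDimensionLT_of_ge _ n _ (Nat.le_succ n)
  let Rp := Localization.AtPrime p
  let Ip : Ideal Rp := I.map (algebraMap R Rp)
  have : IsNoetherianRing Rp := IsLocalization.isNoetherianRing p.primeCompl Rp inferInstance
  have hIpm : Ip ≤ IsLocalRing.maximalIdeal Rp := by
    refine Ideal.map_le_iff_le_comap.2 fun z hz => ?_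
    exact (IsLocalization.AtPrime.to_map_mem_maximal_iff Rp p z).2 (hIp hz)
  obtain ⟨hproj, hfin⟩ := projective_cotangent_map p I
  obtain ⟨k, gen, ψ, hspan, hψ⟩ := exists_dual_generators Ip hIpm
  obtain ⟨rs', hrs', hreg'⟩ := exists_regular_generators k Rp Ip hIpm gen hspan ψ hψ n
    (projDim_map p I n hpd')
  choose num den hnum using fun r : Rp => (IsLocalization.surj p.primeCompl r : ∃ x : R × p.primeCompl,
    r * algebraMap R Rp x.2 = algebraMap R Rp x.1) |> fun ⟨x, hx⟩ =>
      (⟨x.1, x.2, hx⟩ : ∃ (a : R) (s : p.primeCompl), r * algebraMap R Rp s = algebraMap R Rp a)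
  let as := rs'.map num
  have hf : ∀ r : Rp, ∃ u : Rp, IsUnit u ∧ algebraMap R Rp (num r) = u * r := fun r =>
    ⟨_, IsLocalization.map_units Rp (den r), by rw [← hnum, mul_comm]⟩
  have hasmap : as.map (algebraMap R Rp) = rs'.map fun r => algebraMap R Rp (num r) :=
    List.map_map
  have hI : (Ideal.ofList as).map (algebraMap R Rp) = Ip := by
    rw [Ideal.map_ofList, hasmap, ofList_map_unit _ hf, hrs']
  have hregp : DepthLib.RegOn p.primeCompl R as := by
    rw [regOn_self_iff, hasmap]
    exact isWeaklyRegular_map_unit _ hf hreg'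
  obtain ⟨g₁, hg₁, hT⟩ := regOn_spread p as hregp
  obtain ⟨s₁, hs₁, h₁⟩ := exists_mul_mem_of_map_le p (Ideal.ofList as) I hI.le
  obtain ⟨s₂, hs₂, h₂⟩ := exists_mul_mem_of_map_le p I (Ideal.ofList as) hI.ge
  set g := g₁ * (s₁ * s₂) with hgdef
  have hg : g ∉ p := fun h => (hp.mem_or_mem h).elim hg₁ fun h => (hp.mem_or_mem h).elim hs₁ hs₂
  let A := Localization.Away g
  have hle : ∀ (J K : Ideal R) (s : R), s ∣ g → (∀ z ∈ J, s * z ∈ K) →
      J.map (algebraMap R A) ≤ K.map (algebraMap R A) := fun J K s hsg h => by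
    refine Ideal.map_le_iff_le_comap.2 fun z hz => ?_
    have hu : IsUnit (algebraMap R A s) := isUnit_of_dvd_unit (map_dvd _ hsg)
      (IsLocalization.map_units A (⟨g, Submonoid.mem_powers g⟩ : Submonoid.powers g))
    rw [Ideal.mem_comap, ← Ideal.unit_mul_mem_iff_mem _ hu, ← map_mul]
    exact Ideal.mem_map_of_mem _ (h z hz)
  have heq : Ideal.ofList (as.map (algebraMap R A)) = I.map (algebraMap R A) := by
    rw [← Ideal.map_ofList]
    exact le_antisymm (hle _ _ s₁ (Dvd.dvd.mul_left (dvd_mul_right _ _) _) h₁)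
      (hle _ _ s₂ (Dvd.dvd.mul_left (dvd_mul_left _ _) _) h₂)
  refine ⟨g, hg, as.map (algebraMap R A), ⟨?_, ?_⟩, heq⟩
  · exact (regOn_self_iff _ _).1 (hT _ ⟨s₁ * s₂, by rw [mul_comm, ← hgdef]; exact Submonoid.mem_powers g⟩)
  · rw [heq, smul_eq_mul, Ideal.mul_top]
    refine Ne.symm (ne_top_of_le_ne_top ?_ (Ideal.map_mono hIp))
    rw [IsLocalization.map_algebraMap_ne_top_iff_disjoint (Submonoid.powers g) A]
    exact (Ideal.disjoint_powers_iff_notMem g hp.isRadical).2 hg

end Groth.Agent.Vasconcelos
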