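import Groth.Agent.RegularSerre.Serre
import Mathlib.RingTheory.Ideal.Cotangent
import Mathlib.RingTheory.Regular.RegularSequence
import Mathlib.RingTheory.Localization.Algebra

/-!
# Vasconcelos: finite projective dimension and free conormal module give a regular sequence
-/

universe u

open CategoryTheory
open scoped TensorProduct Pointwise

namespace Groth.Agent.Vasconcelos

open IsLocalRing

/-- Linear maps over a quotient. -/
def linQ {R : Type u} [CommRing R] {S : Type u} [CommRing S] [Algebra R S]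
    (hS : Function.Surjective (algebraMap R S)) {M N : Type u} [AddCommGroup M] [Module R M] [Module S M]
    [IsScalarTower R S M] [AddCommGroup N] [Module R N] [Module S N] [IsScalarTower R S N]
    (f : M →ₗ[R] N) : M →ₗ[S] N where
  toFun := f
  map_add' := map_add f
  map_smul' s x := by
    obtain ⟨r, rfl⟩ := hS s
    simp [algebraMap_smul]

/-- An ideal without nonzerodivisors, of finite projective dimension, has no conormal functional. -/
theorem not_le_associatedPrime {R : Type u} [CommRing R] [IsNoetherianRing R] (I : Ideal R)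
    (N : ℕ) (hpd : HasProjectiveDimensionLT (ModuleCat.of R I) (N + 1))
    (g₀ : I) (ψ : I →ₗ[R] R ⧸ I) (hψ : ψ g₀ = 1)
    (P : Ideal R) (hP : P ∈ associatedPrimes R R) : ¬ I ≤ P := by
  intro hIP
  obtain ⟨hPp, a, ha⟩ := isAssociatedPrime_iff.1 hP
  have hmk1 : ∀ u : R, u • (1 : R ⧸ I) = 0 → u ∈ I := fun u hu => by
    rw [← Ideal.Quotient.eq_zero_iff_mem, ← Algebra.algebraMap_eq_smul_one (R := R)] at *
    exact hu
  let Rp := Localization.AtPrime P
  have : IsNoetherianRing Rp := IsLocalization.isNoetherianRing P.primeCompl Rp inferInstance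
  set a' : Rp := algebraMap R Rp a
  have ha0 : a' ≠ 0 := by
    intro h
    obtain ⟨u, hu⟩ := (IsLocalization.map_eq_zero_iff P.primeCompl Rp a).1 h
    apply u.2
    show (u : R) ∈ P
    refine (SetLike.ext_iff.1 ha _).2 ?_
    rw [Submodule.mem_colon_singleton, Submodule.mem_bot, smul_eq_mul]
    exact hu
  have ham : ∀ y ∈ maximalIdeal Rp, a' * y = 0 := by
    intro y hy
    obtain ⟨r, s, rfl⟩ := IsLocalization.exists_mk'_eq P.primeCompl y
    have hr : r ∈ P := (IsLocalization.AtPrime.mk'_mem_maximal_iff Rp P r s).1 hy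
    rw [ha, Submodule.mem_colon_singleton, Submodule.mem_bot, smul_eq_mul, mul_comm] at hr
    rw [IsLocalization.mul_mk'_eq_mk'_of_mul, hr, IsLocalization.mk'_zero]
  have hexI : Function.Exact I.subtype (Submodule.mkQ I) := fun y => by
    rw [Submodule.mkQ_apply, Submodule.Quotient.mk_eq_zero]
    exact ⟨fun hy => ⟨⟨y, hy⟩, rfl⟩, fun ⟨z, hz⟩ => hz ▸ z.2⟩
  have hQ : HasProjectiveDimensionLT (ModuleCat.of R (R ⧸ I)) (N + 2) :=
    (ProjDim.shift_iff I.subtype (Submodule.mkQ I) Subtype.val_injective hexI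
      (Submodule.mkQ_surjective I) N).2 hpd
  have hloc := (ProjDim.pd_locus (N + 1) (R ⧸ I)).2.1 hQ ⟨P, hPp⟩
  let MP := LocalizedModule P.primeCompl (R ⧸ I)
  have : Module.Finite Rp MP := Module.Finite.of_isLocalizedModule P.primeCompl
    (LocalizedModule.mkLinearMap P.primeCompl (R ⧸ I))
  have hproj := RegularSerre.projective_of_projDim ha0 ham (N + 1) MP hloc
  have : Module.Flat Rp MP := @Module.Flat.of_projective Rp MP _ _ _ hproj
  have : Module.Free Rp MP := Module.free_of_flat_of_isLocalRing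
  let b := Module.Free.chooseBasis Rp MP
  obtain ⟨j⟩ : Nonempty (Module.Free.ChooseBasisIndex Rp MP) := by
    by_contra h
    rw [not_nonempty_iff] at h
    have : Subsingleton MP := b.repr.injective.subsingleton
    have h1 : LocalizedModule.mkLinearMap P.primeCompl (R ⧸ I) 1 = 0 := Subsingleton.elim _ _
    obtain ⟨u, hu⟩ := (IsLocalizedModule.eq_zero_iff P.primeCompl _).1 h1
    exact u.2 (hIP (hmk1 u hu))
  have hg0 : (g₀ : R) • b j = 0 := by
    obtain ⟨⟨m, s⟩, hm⟩ := IsLocalizedModule.mk'_surjective P.primeCompl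
      (LocalizedModule.mkLinearMap P.primeCompl (R ⧸ I)) (b j)
    rw [← hm, Function.uncurry_apply_pair, ← IsLocalizedModule.mk'_smul]
    have : (g₀ : R) • m = 0 := by
      obtain ⟨r, rfl⟩ := Ideal.Quotient.mk_surjective m
      rw [Algebra.smul_def, ← Ideal.Quotient.mk_eq_mk, Ideal.Quotient.mk_eq_mk]
      exact mul_eq_zero_of_left (Ideal.Quotient.eq_zero_iff_mem.2 g₀.2) _
    rw [this, IsLocalizedModule.mk'_zero]
  rw [← algebraMap_smul Rp (g₀ : R) (b j)] at hg0
  have hzero : algebraMap R Rp g₀ = 0 := by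
    have h2 := congrArg b.repr hg0
    rw [map_smul, b.repr_self, map_zero] at h2
    simpa [Algebra.smul_def] using DFunLike.congr_fun h2 j
  obtain ⟨u, hu⟩ := (IsLocalization.map_eq_zero_iff P.primeCompl Rp (g₀ : R)).1 hzero
  refine u.2 (hIP (hmk1 u ?_))
  rw [← hψ, ← map_smul, show (u : R) • g₀ = 0 from Subtype.ext hu, map_zero]

/-- The local statement, for generators with dual conormal functionals. -/
theorem exists_regular_generators :
    ∀ (n : ℕ) (R : Type u) [CommRing R] [IsLocalRing R] [IsNoetherianRing R] (I : Ideal R),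
      I ≤ maximalIdeal R → ∀ (g : Fin n → I), Ideal.span (Set.range fun i => (g i : R)) = I →
      ∀ (ψ : Fin n → (I →ₗ[R] R ⧸ I)), (∀ i j, ψ i (g j) = if i = j then 1 else 0) →
      ∀ N, HasProjectiveDimensionLT (ModuleCat.of R I) (N + 1) →
        ∃ rs : List R, Ideal.ofList rs = I ∧ RingTheory.Sequence.IsWeaklyRegular R rs := by
  intro n
  induction n with
  | zero =>
    intro R _ _ _ I _ g hspan ψ _ N _
    refine ⟨[], ?_, RingTheory.Sequence.IsWeaklyRegular.nil _ _⟩
    rw [Ideal.ofList_nil, ← hspan, Set.range_eq_empty, Ideal.span_empty]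
  | succ n ih =>
    intro R _ _ _ I hIm g hspan ψ hψ N hpd
    classical
    set m := maximalIdeal R
    have hnt : Nontrivial (R ⧸ I) := Ideal.Quotient.nontrivial_iff.2
      (ne_top_of_le_ne_top (maximalIdeal.isMaximal R).ne_top hIm)
    have hnsub : ¬ (I : Set R) ⊆ ⋃ p ∈ insert (m * I) (associatedPrimes R R), (p : Set R) := by
      intro hsub
      obtain ⟨q, hq, hle⟩ := (Ideal.subset_union_prime_finite
        ((associatedPrimes.finite R R).insert (m * I)) (m * I) (m * I) (f := fun p => p)
        (fun p hp hne _ => IsAssociatedPrime.isPrime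
          ((Set.mem_insert_iff.mp hp).resolve_left hne))).mp hsub
      rcases Set.mem_insert_iff.mp hq with rfl | hq
      · have hI0 : I = ⊥ := Submodule.eq_bot_of_le_smul_of_le_jacobson_bot m I
          (IsNoetherian.noetherian I) (by rw [smul_eq_mul]; exact hle)
          (IsLocalRing.maximalIdeal_le_jacobson _)
        have h0 : g 0 = 0 := Subtype.ext (by
          show (g 0 : R) = 0
          exact Ideal.mem_bot.1 (hI0.le (g 0).2))
        have := hψ 0 0
        rw [h0, map_zero, if_pos rfl] at this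
        exact zero_ne_one this
      · exact not_le_associatedPrime I N hpd (g 0) (ψ 0) (by rw [hψ, if_pos rfl]) q hq hle
    obtain ⟨x, hx, hxn⟩ := Set.not_subset.mp hnsub
    simp only [Set.mem_iUnion, not_exists] at hxn
    have hxreg : IsSMulRegular R x := by
      by_contra hne
      have : x ∈ ⋃ q ∈ associatedPrimes R R, (q : Set R) := by
        rw [biUnion_associatedPrimes_eq_compl_regular]
        exact hne
      obtain ⟨q, hq, hxq⟩ := Set.mem_iUnion₂.1 this
      exact hxn q (Set.mem_insert_of_mem _ hq) hxq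
    have hxnzd : x ∈ nonZeroDivisors R := mem_nonZeroDivisors_iff_right.2 fun z hz =>
      hxreg (show x • z = x • 0 by rw [smul_zero, smul_eq_mul, mul_comm, hz])
    obtain ⟨c, hc⟩ : ∃ c : Fin (n + 1) → R, ∑ i, c i * (g i : R) = x := by
      have := hx
      rw [← hspan] at this
      exact Ideal.mem_span_range_iff_exists_fun.1 this
    obtain ⟨j, hj⟩ : ∃ j, IsUnit (c j) := by
      by_contra hcon
      push Not at hcon
      refine hxn _ (Set.mem_insert _ _) ?_
      show x ∈ m * I
      rw [← hc]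
      exact Ideal.sum_mem _ fun i _ => Ideal.mul_mem_mul (hcon i) (g i).2
    obtain ⟨w, hw⟩ := isUnit_iff_exists_inv.1 hj
    let xm : I := ⟨x, hx⟩
    have hxm : xm = ∑ i, c i • g i := Subtype.ext (by simp [xm, hc])
    have hψx : ∀ i, ψ i xm = c i • (1 : R ⧸ I) := fun i => by
      rw [hxm, map_sum, Finset.sum_eq_single i]
      · rw [map_smul, hψ, if_pos rfl]
      · intro b _ hb; rw [map_smul, hψ, if_neg (Ne.symm hb), smul_zero]
      · simp
    let φ : I →ₗ[R] R ⧸ I := w • ψ j
    have hφ : φ xm = 1 := by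
      show w • ψ j xm = 1
      rw [hψx, smul_smul, mul_comm, hw, one_smul]
    let ψ' : Fin n → (I →ₗ[R] R ⧸ I) := fun i => ψ (j.succAbove i) - (c (j.succAbove i) * w) • ψ j
    have hψ'x : ∀ i, ψ' i xm = 0 := fun i => by
      simp only [ψ', LinearMap.sub_apply, LinearMap.smul_apply, hψx, smul_smul]
      rw [mul_assoc, mul_comm w, hw, mul_one, sub_self]
    have hψ'g : ∀ i l, ψ' i (g (j.succAbove l)) = if i = l then 1 else 0 := fun i l => by
      simp only [ψ', LinearMap.sub_apply, LinearMap.smul_apply, hψ,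
        Fin.succAbove_right_injective.eq_iff, if_neg (Fin.succAbove_ne j l).symm, smul_zero, sub_zero]
    let Rb := R ⧸ Ideal.span {x}
    let Ib : Ideal Rb := I.map (Ideal.Quotient.mk (Ideal.span {x}))
    have hxle : Ideal.span {x} ≤ I := (Ideal.span_singleton_le_iff_mem _).2 hx
    have : Nontrivial Rb := Ideal.Quotient.nontrivial_iff.2
      (ne_top_of_le_ne_top (maximalIdeal.isMaximal R).ne_top (hxle.trans hIm))
    have : IsLocalRing Rb := IsLocalRing.of_surjective' (Ideal.Quotient.mk _) Ideal.Quotient.mk_surjective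
    have hmax : maximalIdeal Rb = m.map (Ideal.Quotient.mk (Ideal.span {x})) :=
      (IsLocalRing.eq_maximalIdeal (Ideal.IsMaximal.map_of_surjective_of_ker_le
        Ideal.Quotient.mk_surjective (by rw [Ideal.mk_ker]; exact hxle.trans hIm))).symm
    have hIbm : Ib ≤ maximalIdeal Rb := hmax ▸ Ideal.map_mono hIm
    have hsurjRb : Function.Surjective (algebraMap R Rb) := Ideal.Quotient.mk_surjective
    let ρ : I →ₗ[R] Ib :=
      { toFun := fun y => ⟨Ideal.Quotient.mk _ (y : R), Ideal.mem_map_of_mem _ y.2⟩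
        map_add' := fun a b => Subtype.ext (map_add _ _ _)
        map_smul' := fun r a => Subtype.ext (by
          show Ideal.Quotient.mk _ (r * (a : R)) = r • Ideal.Quotient.mk (Ideal.span {x}) (a : R)
          rw [map_mul, Algebra.smul_def, Ideal.Quotient.algebraMap_eq]) }
    have hρsurj : Function.Surjective ρ := by
      rintro ⟨y, hy⟩
      obtain ⟨r, hr, rfl⟩ := (Ideal.mem_map_iff_of_surjective _ Ideal.Quotient.mk_surjective).1 hy
      exact ⟨⟨r, hr⟩, rfl⟩
    have hρker : ∀ y, ρ y = 0 → ∃ r : R, y = r • xm := fun y hy => by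
      obtain ⟨r, hr⟩ := Ideal.mem_span_singleton'.1
        (Ideal.Quotient.eq_zero_iff_mem.1 (congrArg Subtype.val hy))
      exact ⟨r, Subtype.ext hr.symm⟩
    -- the retraction
    let t₀ : R →ₗ[R] Rb ⊗[R] I := LinearMap.toSpanSingleton R _ ((1 : Rb) ⊗ₜ[R] xm)
    have ht₀ : I ≤ LinearMap.ker t₀ := fun y hy => by
      show y • ((1 : Rb) ⊗ₜ[R] xm) = 0
      have e : y • xm = x • (⟨y, hy⟩ : I) := Subtype.ext (mul_comm y x)
      rw [← TensorProduct.tmul_smul, e, ← TensorProduct.smul_tmul,
        show x • (1 : Rb) = 0 from (Algebra.algebraMap_eq_smul_one x).symm.trans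
          (Ideal.Quotient.eq_zero_iff_mem.2 (Ideal.mem_span_singleton_self x)),
        TensorProduct.zero_tmul]
    let η : R ⧸ I →ₗ[R] Rb ⊗[R] I := Submodule.liftQ I t₀ ht₀
    let L₀ : I →ₗ[R] Rb ⊗[R] I := TensorProduct.mk R Rb I 1 - η ∘ₗ φ
    have hη1 : η 1 = (1 : Rb) ⊗ₜ[R] xm := by
      show t₀ 1 = _
      simp [t₀]
    have hL₀ : LinearMap.ker ρ ≤ LinearMap.ker L₀ := fun y hy => by
      obtain ⟨r, rfl⟩ := hρker y hy
      rw [LinearMap.mem_ker, map_smul]
      simp [L₀, hφ, hη1]
    let i₀ : Ib →ₗ[R] Rb ⊗[R] I :=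
      (Submodule.liftQ (LinearMap.ker ρ) L₀ hL₀) ∘ₗ (ρ.quotKerEquivOfSurjective hρsurj).symm.toLinearMap
    have hi₀ : ∀ y, i₀ (ρ y) = L₀ y := fun y => by
      simp only [i₀, LinearMap.comp_apply, LinearEquiv.coe_coe]
      rw [show (ρ.quotKerEquivOfSurjective hρsurj).symm (ρ y) = Submodule.Quotient.mk y from
        (LinearEquiv.symm_apply_eq _).2 rfl]
      rfl
    let r : Rb ⊗[R] I →ₗ[Rb] Ib := ρ.liftBaseChange Rb
    let i : Ib →ₗ[Rb] Rb ⊗[R] I := linQ hsurjRb i₀
    have hri : r.comp i = LinearMap.id := by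
      refine LinearMap.ext fun z => ?_
      obtain ⟨y, rfl⟩ := hρsurj z
      show r (i₀ (ρ y)) = ρ y
      rw [hi₀]
      obtain ⟨q, hq⟩ := Submodule.Quotient.mk_surjective I (φ y)
      have : η (φ y) = q • ((1 : Rb) ⊗ₜ[R] xm) := by rw [← hq]; rfl
      simp only [L₀, LinearMap.sub_apply, TensorProduct.mk_apply, LinearMap.comp_apply, this]
      rw [map_sub, LinearMap.map_smul_of_tower]
      simp only [r, LinearMap.liftBaseChange_tmul, one_smul]
      have hρx : ρ xm = 0 := Subtype.ext (Ideal.Quotient.eq_zero_iff_mem.2 (Ideal.mem_span_singleton_self x))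
      rw [hρx, smul_zero, sub_zero]
    have hxI : IsSMulRegular I x := fun u v huv => Subtype.ext (hxreg (congrArg Subtype.val huv))
    have hmb := RegularSerre.projDim_quot x hxnzd N I hxI hpd
    have hretr : Retract (ModuleCat.of Rb Ib) (ModuleCat.of Rb (Rb ⊗[R] I)) :=
      { i := ModuleCat.ofHom i, r := ModuleCat.ofHom r, retract := ModuleCat.hom_ext hri }
    have := hmb
    have hpdb := hretr.hasProjectiveDimensionLT (N + 1)
    -- functionals
    let e₀ : R ⧸ I →ₗ[R] Rb ⧸ Ib := Submodule.liftQ I (Algebra.linearMap R (Rb ⧸ Ib)) fun y hy => by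
      rw [LinearMap.mem_ker, Algebra.linearMap_apply, IsScalarTower.algebraMap_apply R Rb]
      exact Ideal.Quotient.eq_zero_iff_mem.2 (Ideal.mem_map_of_mem _ hy)
    let χ₀ : Fin n → (Ib →ₗ[R] Rb ⧸ Ib) := fun i =>
      (Submodule.liftQ (LinearMap.ker ρ) (e₀ ∘ₗ ψ' i) fun y hy => by
        obtain ⟨r, rfl⟩ := hρker y hy
        simp [hψ'x]) ∘ₗ (ρ.quotKerEquivOfSurjective hρsurj).symm.toLinearMap
    have hχ : ∀ i y, χ₀ i (ρ y) = e₀ (ψ' i y) := fun i y => by
      simp only [χ₀, LinearMap.comp_apply, LinearEquiv.coe_coe]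
      rw [show (ρ.quotKerEquivOfSurjective hρsurj).symm (ρ y) = Submodule.Quotient.mk y from
        (LinearEquiv.symm_apply_eq _).2 rfl]
      rfl
    have hspanb : Ideal.span (Set.range fun l => ((ρ (g (j.succAbove l))) : Rb)) = Ib := by
      refine le_antisymm (Ideal.span_le.2 ?_) ?_
      · rintro _ ⟨l, rfl⟩; exact (ρ _).2
      · have hmap := congrArg (Ideal.map (Ideal.Quotient.mk (Ideal.span {x}))) hspan
        rw [Ideal.map_span] at hmap
        show I.map _ ≤ _
        refine hmap.ge.trans ?_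
        rw [Ideal.span_le]
        rintro _ ⟨_, ⟨i', rfl⟩, rfl⟩
        rcases Fin.eq_self_or_eq_succAbove j i' with rfl | ⟨l, rfl⟩
        · have e : (Ideal.Quotient.mk (Ideal.span {x}) (g i' : R)) =
              -Ideal.Quotient.mk (Ideal.span {x}) w * ∑ l, Ideal.Quotient.mk (Ideal.span {x}) (c (i'.succAbove l)) *
                Ideal.Quotient.mk (Ideal.span {x}) (g (i'.succAbove l) : R) := by
            simp only [← map_mul, ← map_sum, ← map_neg]
            rw [Ideal.Quotient.eq, Ideal.mem_span_singleton']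
            refine ⟨w, ?_⟩
            rw [← hc, Fin.sum_univ_succAbove _ i']
            linear_combination (g i' : R) * hw
          show Ideal.Quotient.mk (Ideal.span {x}) (g i' : R) ∈ _
          rw [e]
          exact Ideal.mul_mem_left _ _ (Ideal.sum_mem _ fun l _ =>
            Ideal.mul_mem_left _ _ (Ideal.subset_span ⟨l, rfl⟩))
        · exact Ideal.subset_span ⟨l, rfl⟩
    obtain ⟨rsb, hrsb, hregb⟩ := ih Rb Ib hIbm (fun l => ρ (g (j.succAbove l))) hspanb
      (fun i => linQ hsurjRb (χ₀ i))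
      (fun i l => by
        show χ₀ i (ρ (g (j.succAbove l))) = _
        rw [hχ, hψ'g]
        split_ifs
        · show algebraMap R (Rb ⧸ Ib) 1 = 1
          rw [map_one]
        · rw [map_zero])
      N hpdb
    obtain ⟨rs, rfl⟩ : ∃ rs : List R, rs.map (algebraMap R Rb) = rsb :=
      List.map_surjective_iff.2 hsurjRb rsb
    refine ⟨x :: rs, ?_, ?_⟩
    · rw [← Ideal.map_ofList] at hrsb
      have h1 := congrArg (Ideal.comap (algebraMap R Rb)) hrsb
      rw [Ideal.comap_map_of_surjective _ hsurjRb,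
        show Ib = I.map (algebraMap R Rb) from rfl, Ideal.comap_map_of_surjective _ hsurjRb] at h1
      have hker : Ideal.comap (algebraMap R Rb) ⊥ = Ideal.span {x} := Ideal.mk_ker
      rw [hker] at h1
      rw [Ideal.ofList_cons, sup_comm, h1]
      exact sup_eq_left.2 hxle
    · refine (RingTheory.Sequence.isWeaklyRegular_cons_iff R x rs).2 ⟨hxreg, ?_⟩
      rw [RingTheory.Sequence.isWeaklyRegular_map_algebraMap_iff] at hregb
      exact ((Submodule.quotEquivOfEq (x • ⊤ : Submodule R R) (Ideal.span {x})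
        (by rw [← Submodule.ideal_span_singleton_smul, smul_eq_mul, Ideal.mul_top])).isWeaklyRegular_congr rs).2 hregb

end Groth.Agent.Vasconcelos
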